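import Groth.Agent.FlatDim.DimTrdeg
import Groth.Agent.AlgSpLib.CodimZero
import Groth.Agent.AlgSpLib.EtaleDim
import Groth.Agent.AlgSpLib.NoethPts
import Groth.Agent.AlgSpLib.StalkChart
import Groth.Agent.SpQS.TrdegQF

/-!
Dimension and transcendence degree inequalities for locally finite type morphisms.
-/

universe u
open CategoryTheory CategoryTheory.Limits AlgebraicGeometry

set_option backward.isDefEq.respectTransparency false

namespace Groth.Agent.SpDimTrdeg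

open DimFormula Unibranch

variable {X Y : Scheme.{u}} [IsLocallyNoetherian Y] (f : X ⟶ Y) [LocallyOfFiniteType f]

/-- residual transcendence degrees of locally finite type maps are finite -/
theorem exists_resTrdeg_eq_nat (x : X) : ∃ n : ℕ, Dual3.resTrdeg f x = (n : Cardinal.{u}) :=
  let ⟨_, n, _, h, _⟩ := SpRelDim.fibreDimAt_eq_add_resTrdeg f x
  ⟨n, h⟩

theorem dim_stalk_le (x : X) {a b : WithBot ℕ∞} {E r : Cardinal.{u}}
    (ha : ringKrullDim (X.presheaf.stalk x) = a) (hb : ringKrullDim (Y.presheaf.stalk (f x)) = b)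
    (hr : Dual3.resTrdeg f x = r)
    (hE : ∀ ξ : X, IsMaxPt ξ → ξ ⤳ x → Dual3.resTrdeg f ξ ≤ E) :
    a + ((Cardinal.toENat r : ℕ∞) : WithBot ℕ∞) ≤ b + ((Cardinal.toENat E : ℕ∞) : WithBot ℕ∞) := by
  haveI : IsLocallyNoetherian X := LocallyOfFiniteType.isLocallyNoetherian f
  obtain ⟨A, hA, -⟩ := exists_ringKrullDim_stalk x
  obtain ⟨B, hB, -⟩ := exists_ringKrullDim_stalk (f x)
  obtain ⟨-, ζ, hζ, hζx, hgen⟩ := (ringKrullDim_stalk_eq_iff x).1 hA
  obtain ⟨hle, -⟩ := (ringKrullDim_stalk_eq_iff (f x)).1 hB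
  obtain ⟨c, hc1, g, hg1, hg2, hg3⟩ := exists_genLE_hasGen (hζx.map f.continuous)
  obtain ⟨d, hd⟩ := exists_resTrdeg_eq_nat f x
  obtain ⟨e, he⟩ := exists_resTrdeg_eq_nat f ζ
  have h := dimension_inequality f hζx hgen hc1 (FlatDim.chains_resTrdeg f x hd).2 (FlatDim.chains_resTrdeg f ζ he).1
  have hcB : c ≤ B := hle c g hg1 hg3
  have heE : (e : ℕ∞) ≤ Cardinal.toENat E := by
    rw [← Cardinal.toENat_nat (n := e), ← he]
    exact OrderHomClass.mono Cardinal.toENat (hE ζ hζ hζx)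
  rw [← ha, ← hb, ← hr, hA, hB, hd]
  refine le_trans ?_ (add_le_add le_rfl (WithBot.coe_le_coe.2 heE))
  rw [map_natCast]
  exact_mod_cast (by omega : A + d ≤ B + e)

theorem dim_le {E : Cardinal.{u}} (hE : ∀ ξ : X, IsMaxPt ξ → Dual3.resTrdeg f ξ ≤ E) :
    topologicalKrullDim ↥X ≤ topologicalKrullDim ↥Y + ((Cardinal.toENat E : ℕ∞) : WithBot ℕ∞) := by
  rcases isEmpty_or_nonempty ↥X with hX | ⟨⟨x⟩⟩
  · haveI : IsEmpty (TopologicalSpace.IrreducibleCloseds ↥X) := ⟨fun Z => hX.false Z.isIrreducible.nonempty.some⟩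
    exact le_of_eq_of_le Order.krullDim_eq_bot bot_le
  by_cases hT : Cardinal.toENat E = ⊤
  · haveI : Nonempty (TopologicalSpace.IrreducibleCloseds ↥Y) :=
      ⟨⟨closure {f x}, isIrreducible_singleton.closure, isClosed_closure⟩⟩
    have h0 : (0 : WithBot ℕ∞) ≤ topologicalKrullDim ↥Y := Order.krullDim_nonneg
    rw [hT]
    refine le_trans ?_ (add_le_add h0 le_rfl)
    rw [zero_add]
    exact le_top
  obtain ⟨n, hn⟩ := ENat.ne_top_iff_exists.1 hT
  rw [← hn]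
  refine FlatDim.dim_le_of_resTrdeg f fun ξ hξ => ?_
  obtain ⟨e, he⟩ := exists_resTrdeg_eq_nat f ξ
  refine ⟨e, ?_, (FlatDim.chains_resTrdeg f ξ he).1⟩
  have h := hE ξ hξ
  rw [he, Cardinal.toENat_eq_natCast.1 hn.symm] at h
  exact_mod_cast h

end Groth.Agent.SpDimTrdeg

namespace Groth.Agent.SpDimTrdeg

open _root_.AlgSp Groth.Agent.AlgSpLib

variable {S : Scheme.{u}}

theorem hasAt_codimZero {F : Sp S} {U : Over S} {a : (yon S).obj U ⟶ F} (ha : RepWith @Etale a) {ξ : ↥U.left}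
    (hξ : Unibranch.IsMaxPt ξ) :
    HasAt (fun U u => ringKrullDim ↥(U.presheaf.stalk u) = 0) F (Points.ofPt a ξ) :=
  ⟨U, a, ξ, ha, rfl, (SpQS.stalk_dim_zero_iff _).2 hξ⟩

theorem sp_dim_stalk_le {X Y : Sp S} (hX : IsAlgSpace X) (hY : IsAlgSpace Y) (f : X ⟶ Y) (hN : IsLocNoethSp Y)
    (hf : LocP @LocallyOfFiniteType f) (x : Points X) (E : Cardinal.{u})
    (hE : ∀ ξ : Points X, ξ ⤳ x → HasAt (fun U u => ringKrullDim ↥(U.presheaf.stalk u) = 0) X ξ →
      ∀ s : Cardinal.{u}, HasAtMor (fun _ _ h u => Dual3.resTrdeg h u = s) f ξ → s ≤ E)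
    {a b : WithBot ℕ∞} {r : Cardinal.{u}}
    (ha : HasAt (fun U u => ringKrullDim ↥(U.presheaf.stalk u) = a) X x)
    (hb : HasAt (fun U u => ringKrullDim ↥(U.presheaf.stalk u) = b) Y (Points.map f x))
    (hr : HasAtMor (fun _ _ h u => Dual3.resTrdeg h u = r) f x) :
    a + ((Cardinal.toENat r : ℕ∞) : WithBot ℕ∞) ≤ b + ((Cardinal.toENat E : ℕ∞) : WithBot ℕ∞) := by
  obtain ⟨U, V, p, q, h, u, hp, hq, comm, hu, hru⟩ := hr
  haveI : LocallyOfFiniteType h.left := hf p q h hp hq comm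
  haveI := isLocallyNoetherian_chart hY hN hq
  refine dim_stalk_le h.left u ((StalkPoint.hasAt_dim_iff_forall hX x a).1 ha U p u hp hu)
    ((StalkPoint.hasAt_dim_iff_forall hY _ b).1 hb V q _ hq ?_) hru fun ξ hξ hξu => ?_
  · rw [← hu, Points.map_ofPt, comm, ofPt_comp]
  · exact hE _ (by rw [← hu]; exact hξu.map (Points.continuous_ofPt p)) (hasAt_codimZero hp hξ) _
      ⟨U, V, p, q, h, ξ, hp, hq, comm, rfl, rfl⟩

theorem sp_dim_le {X Y : Sp S} (hX : IsAlgSpace X) (hY : IsAlgSpace Y) (f : X ⟶ Y) (hN : IsLocNoethSp Y)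
    (hf : LocP @LocallyOfFiniteType f) (E : Cardinal.{u})
    (hE : ∀ ξ : Points X, HasAt (fun U u => ringKrullDim ↥(U.presheaf.stalk u) = 0) X ξ →
      ∀ s : Cardinal.{u}, HasAtMor (fun _ _ h u => Dual3.resTrdeg h u = s) f ξ → s ≤ E) :
    AlgSp.dim X ≤ AlgSp.dim Y + ((Cardinal.toENat E : ℕ∞) : WithBot ℕ∞) := by
  refine iSup_le fun U => iSup_le fun a => iSup_le fun ha => ?_
  obtain ⟨V, b, hb, hbs⟩ := hY.atlas
  obtain ⟨W, p, q, sq⟩ := exists_pullback hY.diag (a ≫ f) b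
  have hpe : RepWith @Etale ((yon S).map p) := repWith_baseChange sq.flip hb
  haveI hp : Etale p.left := (repWith_yon_iff p).1 hpe
  haveI hps : Surjective p.left := (repWith_yon_iff p).1 (repWith_baseChange sq.flip hbs)
  refine (DimChain.le_of_generalizingMap p.left (Flat.generalizingMap p.left) p.left.surjective).trans ?_
  haveI : LocallyOfFiniteType q.left :=
    hf ((yon S).map p ≫ a) b q (repWith_comp hpe ha) hb (by rw [Category.assoc]; exact sq.w)
  haveI := isLocallyNoetherian_chart hY hN hb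
  refine (dim_le q.left fun ξ hξ => hE _ (hasAt_codimZero (repWith_comp hpe ha) hξ) _
    ⟨W, V, (yon S).map p ≫ a, b, q, ξ, repWith_comp hpe ha, hb, by rw [Category.assoc]; exact sq.w, rfl, rfl⟩).trans
    (add_le_add (le_iSup_of_le V (le_iSup_of_le b (le_iSup_of_le hb le_rfl))) le_rfl)

end Groth.Agent.SpDimTrdeg
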