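import Groth.Agent.SpDimTrdeg.Basic
import Groth.Agent.SpQS.DimDecent
import Groth.Agent.SpQS.GenPts
import Groth.Agent.AlgSpLib.Space

/-!
Lifting chains along universally closed morphisms of decent spaces, dimension of proper dominant maps.
-/

universe u
open CategoryTheory CategoryTheory.Limits AlgebraicGeometry

set_option backward.isDefEq.respectTransparency false

namespace Groth.Agent.SpDimTrdeg

open DimFormula Unibranch
open _root_.AlgSp Groth.Agent.AlgSpLib

variable {S : Scheme.{u}}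

theorem add_le_of_forall_nat {K A : WithBot ℕ∞} {r : ℕ}
    (h : ∀ d : ℕ, (d : WithBot ℕ∞) ≤ K → ((d + r : ℕ) : WithBot ℕ∞) ≤ A) :
    K + ((r : ℕ∞) : WithBot ℕ∞) ≤ A := by
  cases K with
  | bot => rw [WithBot.bot_add]; exact bot_le
  | coe D =>
    cases D with
    | top =>
      rw [← WithBot.coe_add, top_add]
      refine le_of_forall_natCast_le fun l hl => ?_
      exact le_trans (by exact_mod_cast Nat.le_add_right l r) (h l (WithBot.coe_le_coe.2 le_top))
    | coe d => exact le_trans (by push_cast; exact le_rfl) (h d le_rfl)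

theorem exists_chain_lift {P : Sp S} (hP : IsAlgSpace P) (hdP : IsDecent P) {V W : Over S}
    [IsLocallyNoetherian V.left] (snd : P ⟶ (yon S).obj V) (hcl : IsClosedMap (Points.map snd))
    {c : (yon S).obj W ⟶ P} (hce : RepWith @Etale c) (hcs : RepWith @Surjective c) (g : W ⟶ V)
    (hg : c ≫ snd = (yon S).map g) [LocallyOfFiniteType g.left] :
    ∀ (d n : ℕ) (ζ : ↥W.left) (q : Fin (d + 1) → ↥V.left), IsChain' q → g.left ζ = q 0 →
      HasChain g.left (closure {ζ}) (g.left ζ) n →
      ∃ (m : ℕ) (ζ₂ : ↥W.left) (ch : Fin (m + 1) → ↥W.left), d + n ≤ m ∧ IsChain' ch ∧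
        Points.ofPt c ζ₂ = Points.ofPt c ζ ∧ ζ₂ ⤳ ch 0 := by
  intro d
  induction d with
  | zero =>
    rintro n ζ q - - ⟨ch, hc, hcc⟩
    exact ⟨n, ζ, ch, by omega, hcc, rfl, specializes_iff_mem_closure.2 (hc 0).1⟩
  | succ d ih =>
    intro n ζ q hq hζ hn
    have key : ∀ w : ↥W.left, Points.map snd (Points.ofPt c w) = Points.ofScheme V (g.left w) := fun w => by
      rw [Points.map_ofPt, hg]; exact ofScheme_map g w
    have h1 : Points.ofScheme V (q 1) ∈ Points.map snd '' closure {Points.ofPt c ζ} := by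
      refine (hcl _ isClosed_closure).closure_subset_iff.2 subset_rfl ?_
      refine (((hq 0).1).map (Points.continuous_ofPt (𝟙 _))).mem_closed isClosed_closure
        (subset_closure ⟨_, subset_closure rfl, ?_⟩)
      rw [key, hζ]; rfl
    obtain ⟨p, hp, hpv⟩ := h1
    obtain ⟨w, rfl⟩ := ofPt_surjective hcs p
    rw [key] at hpv
    have hw : g.left w = q 1 := (Points.schemeEquiv V).injective hpv
    have hgood := SpQS.goodAt_of_isDecent hP hdP
    obtain ⟨ζ₁, hζ₁w, hζ₁⟩ := SpQS.exists_specializes_lift hP (hgood _) (specializes_iff_mem_closure.2 hp) hce w rfl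
    have hgζ : g.left ζ₁ = g.left ζ := (Points.schemeEquiv V).injective (by
      show Points.ofScheme V _ = Points.ofScheme V _
      rw [← key, ← key, hζ₁])
    obtain ⟨δ, hδ⟩ := exists_resTrdeg_eq_nat g.left ζ
    have hnδ : n ≤ δ := by
      obtain ⟨ch, hch, hchc⟩ := hn
      exact (FlatDim.chains_resTrdeg g.left ζ hδ).1 n ch hch hchc
    have hδ₁ : Dual3.resTrdeg g.left ζ₁ = (δ : Cardinal.{u}) := by
      rw [SpQS.resTrdeg_chart_indep hP (IsAlgSpace.yon_obj V) snd (b := 𝟙 _) (h := g) hce repWith_id'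
        (by rw [Category.comp_id]; exact hg) (b' := 𝟙 _) (h' := g) hce repWith_id'
        (by rw [Category.comp_id]; exact hg) hζ₁]
      exact hδ
    obtain ⟨z, hζz, -, hfz, hz⟩ := Catenary.exists_fibre_point g.left hζ₁w (FlatDim.chains_resTrdeg g.left ζ₁ hδ₁).2
    obtain ⟨m, z₂, ch, hm, hch, hz₂, hz₂c⟩ :=
      ih δ z (Fin.tail q) (fun i => hq i.succ) (hfz.trans hw) (hfz.symm ▸ hz)
    have hsp : Points.ofPt c ζ ⤳ Points.ofPt c z₂ := by
      rw [hz₂, ← hζ₁]; exact hζz.map (Points.continuous_ofPt c)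
    obtain ⟨ζ₃, hζ₃z, hζ₃⟩ := SpQS.exists_specializes_lift hP (hgood _) hsp hce z₂ rfl
    refine ⟨m + 1, ζ₃, Fin.cons ζ₃ ch, by omega, fun i => ?_, hζ₃, specializes_rfl⟩
    cases i using Fin.cases with
    | zero =>
      refine ⟨by simpa using hζ₃z.trans hz₂c, fun he => ?_⟩
      simp only [Fin.castSucc_zero, Fin.cons_zero, Fin.cons_succ] at he
      have e0 : g.left ζ₃ = q 0 := by
        rw [← hζ]
        exact (Points.schemeEquiv V).injective (by
          show Points.ofScheme V _ = Points.ofScheme V _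
          rw [← key, ← key, hζ₃])
      have e1 : g.left z₂ = q 1 := by
        rw [← hw, ← hfz]
        exact (Points.schemeEquiv V).injective (by
          show Points.ofScheme V _ = Points.ofScheme V _
          rw [← key, ← key, hz₂])
      have h2 : q 1 ⤳ q 0 := by
        rw [← e0, ← e1, he]
        exact hz₂c.map g.left.continuous
      exact (hq 0).2 (((hq 0).1).antisymm h2).eq
    | succ i => simpa [← Fin.succ_castSucc] using hch i

theorem dim_add_le_of_univClosed {X Y : Sp S} (hX : IsAlgSpace X) (hY : IsAlgSpace Y) (hdX : IsDecent X)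
    (hdY : IsDecent Y) (f : X ⟶ Y) (hN : IsLocNoethSp Y) (hf : LocP @LocallyOfFiniteType f)
    (hcl : IsUnivClosedMor f) {x : Points X} {r : ℕ}
    (hy : ∀ z : Points Y, SpQS.IsMaxPt z → z = Points.map f x)
    (hr : HasAtMor (fun _ _ h u => Dual3.resTrdeg h u = (r : Cardinal.{u})) f x) :
    AlgSp.dim Y + ((r : ℕ∞) : WithBot ℕ∞) ≤ AlgSp.dim X := by
  have key : ∀ (V : Over S) (b : (yon S).obj V ⟶ Y), RepWith @Etale b →
      topologicalKrullDim ↥V.left + ((r : ℕ∞) : WithBot ℕ∞) ≤ AlgSp.dim X := by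
    intro V b hb
    haveI := isLocallyNoetherian_chart hY hN hb
    have sq := IsPullback.of_hasPullback f b
    have hP := isAlgSpace_of_isPullback_space hY hX (IsAlgSpace.yon_obj V) sq
    have hdP := SpQS.isDecent_of_isPullback hY hX (IsAlgSpace.yon_obj V) sq hdX (SpQS.isDecent_yon V)
    obtain ⟨W, c, hce, hcs⟩ := hP.atlas
    obtain ⟨g, hg⟩ := (yon S).map_surjective (c ≫ pullback.snd f b)
    have hca : RepWith @Etale (c ≫ pullback.fst f b) := repWith_comp hce (repWith_baseChange sq.flip hb)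
    have comm : (c ≫ pullback.fst f b) ≫ f = (yon S).map g ≫ b := by
      rw [Category.assoc, sq.w, hg, Category.assoc]
    haveI : LocallyOfFiniteType g.left := hf _ b g hca hb comm
    have hle : ∀ d : ℕ, (d : WithBot ℕ∞) ≤ topologicalKrullDim ↥V.left →
        ((d + r : ℕ) : WithBot ℕ∞) ≤ AlgSp.dim X := by
      intro d hd
      obtain ⟨q, hq⟩ := exists_chain_of_le_topologicalKrullDim hd
      obtain ⟨η, hη, hη0⟩ := Unibranch.exists_isMaxPt_specializes (q 0)
      obtain ⟨q', hq', hq'0⟩ : ∃ q' : Fin (d + 1) → ↥V.left, IsChain' q' ∧ q' 0 = η := by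
        refine ⟨Function.update q 0 η, fun i => ?_, Function.update_self _ _ _⟩
        rw [Function.update_of_ne (Fin.succ_ne_zero i)]
        by_cases h0 : i.castSucc = 0
        · rw [h0, Function.update_self]
          refine ⟨hη0.trans ((h0 ▸ (hq i).1)), fun e => (hq i).2 ?_⟩
          have h' : q i.succ ⤳ q i.castSucc := by rw [← e, h0]; exact hη0
          exact ((hq i).1.antisymm h').eq
        · rw [Function.update_of_ne h0]; exact hq i
      have e : Points.map f x = Points.map b (Points.ofScheme V η) := by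
        rw [Points.map_ofPt, Category.id_comp]
        exact (hy _ ((SpQS.isMaxPt_ofPt_iff hY (SpQS.goodAt_of_isDecent hY hdY) hb η).2 hη)).symm
      obtain ⟨p, hp1, hp2⟩ := exists_point_of_isPullback sq x (Points.ofScheme V η) e
      obtain ⟨ζ, rfl⟩ := ofPt_surjective hcs p
      have hgζ : g.left ζ = η := (Points.schemeEquiv V).injective (by
        show Points.ofScheme V _ = Points.ofScheme V _
        rw [← hp2, Points.map_ofPt, ← hg]
        exact (ofScheme_map g ζ).symm)
      have hrζ : Dual3.resTrdeg g.left ζ = (r : Cardinal.{u}) := by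
        obtain ⟨U', V', a', b', h', u', ha', hb', comm', hu', h0⟩ := hr
        rw [← h0]
        refine SpQS.resTrdeg_chart_indep hX hY f hca hb comm ha' hb' comm' ?_
        rw [hu', ← hp1, Points.map_ofPt]
      obtain ⟨m, -, ch, hm, hch, -, -⟩ := exists_chain_lift hP hdP (pullback.snd f b)
        (hcl (IsAlgSpace.yon_obj V) b (pullback.fst f b) (pullback.snd f b) sq) hce hcs g hg.symm d r ζ q' hq'
        (hgζ.trans hq'0.symm) (FlatDim.chains_resTrdeg g.left ζ hrζ).2
      refine le_trans ?_ (le_iSup_of_le W (le_iSup_of_le _ (le_iSup_of_le hca le_rfl)))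
      refine le_trans ?_ (natCast_le_topologicalKrullDim ch hch)
      exact_mod_cast hm
    exact add_le_of_forall_nat hle
  refine add_le_of_forall_nat fun d hd => ?_
  suffices h : ∃ (V : Over S) (b : (yon S).obj V ⟶ Y) (_ : RepWith @Etale b),
      (d : WithBot ℕ∞) ≤ topologicalKrullDim ↥V.left by
    obtain ⟨V, b, hb, hdV⟩ := h
    exact le_trans (by push_cast; exact add_le_add hdV le_rfl) (key V b hb)
  cases d with
  | zero =>
    have h0 : (⊥ : WithBot ℕ∞) < AlgSp.dim Y := lt_of_lt_of_le (WithBot.bot_lt_coe _) hd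
    unfold AlgSp.dim at h0
    simp only [lt_iSup_iff] at h0
    obtain ⟨V, b, hb, hV⟩ := h0
    obtain ⟨D, hD⟩ := WithBot.ne_bot_iff_exists.1 hV.ne'
    exact ⟨V, b, hb, hD ▸ WithBot.coe_le_coe.2 bot_le⟩
  | succ l =>
    have h0 : (l : WithBot ℕ∞) < AlgSp.dim Y := lt_of_lt_of_le (by exact_mod_cast Nat.lt_succ_self l) hd
    unfold AlgSp.dim at h0
    simp only [lt_iSup_iff] at h0
    obtain ⟨V, b, hb, hV⟩ := h0
    refine ⟨V, b, hb, ?_⟩
    obtain ⟨D, hD⟩ := WithBot.ne_bot_iff_exists.1 (ne_bot_of_gt hV)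
    rw [← hD] at hV ⊢
    have h1 : (l : ℕ∞) < D := WithBot.coe_lt_coe.1 hV
    exact WithBot.coe_le_coe.2 (by push_cast; exact Order.add_one_le_of_lt h1)

end Groth.Agent.SpDimTrdeg
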